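import Cfsg.Agent.Mrg.Omega.EK3.FK.Fr
import Cfsg.Agent.Mrg.Omega.KL.TwoZ.Fr
import Cfsg.Agent.Mrg.Omega.KL.TwoZ.Ex
import Cfsg.Agent.Mrg.Omega.KL.TwoZ.Inp
import Cfsg.Agent.Mrg.Omega.NO3S.EThree.Row7
import Cfsg.Agent.Mrg.Omega.EK3.Q.Claim
import Cfsg.Agent.Mrg.Omega.EK3.Q.Def

-- merged: Cfsg.Agent.Mrg.Omega.NO3S.EThree.FourTwo.Fr
section

/-!
# Row (7), (4F), `k = 2` (bb #24656): the fields of the abstract frame from `FrK`

`C_i := C_G(z_i) = Y_{i+1}`, `D = C_0 ∩ C_1`.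
-/

set_option autoImplicit false
set_option linter.unusedSectionVars false

namespace Cfsg.Agent.Omega.NO3S.EThree.FourTwo

open Subgroup Cfsg Cfsg.Agent.ZN.ChoiceBase
open Cfsg.Agent.ZN (jj zj bau zc zl o2)
open Cfsg.Agent.ZN.ChoiceSit (Syl exists_syl syl_conj)
open Cfsg.Agent.Omega.NO3S.EThree.Frame
open Cfsg.Agent.Omega.Node.MultiOf
open Cfsg.Agent.Omega.EK3.FK
open Cfsg.Agent.Omega.EK3.StarE (EE cj_le_EE)
open Cfsg.Agent.Omega.MinPar (NonLoc)
open Cfsg.Agent.MinSimple.MinParabolic (IsMinPar le_of_forall)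

universe u

variable {G : Type u} [Group G]

theorem fin2 : ∀ i l : Fin 2, l ≠ i + 1 ↔ l = i := by decide

theorem fin2' : ∀ i l : Fin 2, l ≠ i ↔ l = i + 1 := by decide

/-- `C_G(z_i) = Y_{i+1}` -/
theorem cen_eq (z : Fin 2 → G) (i : Fin 2) : centralizer (zpowers (z i) : Set G) = YY z (i + 1) := by
  ext x
  rw [mem_YY]
  constructor
  · intro hx l hl
    rw [fin2] at hl
    subst hl
    exact (mem_centralizer_iff.1 hx _ (mem_zpowers _)).symm
  · intro hx
    have h1 := hx i ((fin2 i i).2 rfl)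
    have h2 : zpowers (z i) ≤ centralizer ({x} : Set G) := by
      rw [zpowers_le, mem_centralizer_singleton_iff]
      exact h1.symm
    exact mem_centralizer_iff.2 fun y hy => mem_centralizer_singleton_iff.1 (h2 hy)

theorem add_two : ∀ i : Fin 2, i + 1 + 1 = i := by decide

theorem ne_succ : ∀ i : Fin 2, i + 1 ≠ i := by decide

theorem eq_succ : ∀ i j : Fin 2, i ≠ j → j = i + 1 := by decide

theorem cen_succ (z : Fin 2 → G) (i : Fin 2) : centralizer (zpowers (z (i + 1)) : Set G) = YY z i := by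
  rw [cen_eq, add_two]

theorem inter_eq (z : Fin 2 → G) :
    centralizer (zpowers (z 0) : Set G) ⊓ centralizer (zpowers (z 1) : Set G) = DD z := by
  rw [cen_eq, cen_eq]
  ext x
  rw [mem_inf, mem_YY, mem_YY, mem_DD]
  constructor
  · rintro ⟨h1, h2⟩ l
    fin_cases l
    · exact h1 0 (by decide)
    · exact h2 1 (by decide)
  · intro h1
    exact ⟨fun l _ => h1 l, fun l _ => h1 l⟩

variable [Finite G] {S : Sylow 2 G} {P K B ZJ : Subgroup G} {L W Z C : Fin 2 → Subgroup G} {z : Fin 2 → G}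
  (h : FrK S P K B ZJ L W Z C z)
include h

theorem char2 (i : Fin 2) : centralizer (zpowers (z i) : Set G) ⊓
    centralizer (o2 (centralizer (zpowers (z i) : Set G)) : Set G) ≤ o2 (centralizer (zpowers (z i) : Set G)) := by
  rw [cen_eq]
  exact h.char2_CT (h.ne_compl _)

theorem sqV (i : Fin 2) : ∀ x ∈ Z i, x ^ 2 = 1 := fun _ hx => h.ZJ_sq (h.bg.fr.Z_le i hx)

theorem ZV (i : Fin 2) : zpowers (z i) ≤ Z i := zpowers_le.2 (h.zZ i)

theorem ne (i : Fin 2) : zpowers (z i) ≠ ⊥ := fun e => h.z1 i (zpowers_eq_bot.1 e)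

theorem syl (i : Fin 2) : Syl (TT S W) (centralizer (zpowers (z i) : Set G)) := by
  rw [cen_eq]
  exact h.syl_Y (h.T_Y _) le_rfl

/-- `D` normalises `⟨z l⟩` -/
theorem D_norm {x : G} (hx : x ∈ DD z) (l : Fin 2) : x ∈ normalizer (zpowers (z l) : Set G) := by
  refine centralizer_le_normalizer _ ?_
  rw [cen_eq]
  exact DD_le_CT hx

theorem nT (i : Fin 2) : centralizer (zpowers (z i) : Set G) ⊓ normalizer (TT S W : Set G) ≤
    normalizer (zpowers (z (i + 1)) : Set G) ⊓ normalizer (Z i : Set G) := by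
  rw [cen_eq]
  rintro x ⟨hx, hT⟩
  have h1 := h.norm_T hx hT
  exact ⟨D_norm h h1.1 _, h1.2 i⟩

theorem nV (i : Fin 2) : TT S W ≤ normalizer (Z i : Set G) := h.T_Z i

theorem cV (i : Fin 2) : ∀ w ∈ Z i, w ∈ centralizer (TT S W : Set G) → w ∈ zpowers (z i) := by
  intro w hw hc
  rcases h.fx i w hw (fun t ht => mem_centralizer_iff.1 hc t ht) with rfl | rfl
  · exact one_mem _
  · exact mem_zpowers _

/-- `z i` has order 2 -/
theorem zp {i : Fin 2} {w : G} (hw : w ∈ zpowers (z i)) : w = 1 ∨ w = z i := by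
  obtain ⟨n, rfl⟩ := mem_zpowers_iff.1 hw
  rcases Int.even_or_odd' n with ⟨m, rfl | rfl⟩
  · left
    rw [zpow_mul]
    have : z i ^ (2 : ℤ) = 1 := by exact_mod_cast h.ZJ_sq (h.z_ZJ i)
    rw [this, one_zpow]
  · right
    rw [zpow_add, zpow_mul]
    have : z i ^ (2 : ℤ) = 1 := by exact_mod_cast h.ZJ_sq (h.z_ZJ i)
    rw [this, one_zpow, one_mul, zpow_one]

theorem sti (i : Fin 2) : ∀ w ∈ zpowers (z (i + 1)), w ≠ 1 →
    centralizer (zpowers (z i) : Set G) ⊓ centralizer ({w} : Set G) ≤ normalizer (zpowers (z (i + 1)) : Set G) := by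
  intro w hw hw1
  rcases zp h hw with rfl | rfl
  · exact absurd rfl hw1
  · rintro x ⟨-, hx⟩
    refine centralizer_le_normalizer _ ?_
    have h2 : zpowers (z (i + 1)) ≤ centralizer ({x} : Set G) := by
      rw [zpowers_le, mem_centralizer_singleton_iff]
      exact (mem_centralizer_singleton_iff.1 hx).symm
    exact mem_centralizer_iff.2 fun y hy => mem_centralizer_singleton_iff.1 (h2 hy)

/-- an odd element of `N(Z_j) ∩ C(z_j)` centralises `Z_j` -/
theorem odd_cen {j : Fin 2} {g : G} (hg : g ∈ normalizer (Z j : Set G)) (hz : g * z j = z j * g)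
    (ho : Odd (orderOf g)) : g ∈ centralizer (Z j : Set G) := by
  -- `g ^ 2` centralises `Z j`
  have key : ∀ p ∈ Z j, g * p * g⁻¹ = p ∨ g * p * g⁻¹ = p * z j := by
    intro p hp
    by_cases hpz : p ∈ zpowers (z j)
    · left
      rcases zp h hpz with rfl | rfl
      · group
      · rw [hz]; group
    have hw : g * p * g⁻¹ ∈ Z j := (mem_normalizer_iff.1 hg p).1 hp
    by_cases hwz : g * p * g⁻¹ ∈ zpowers (z j)
    · exfalso
      apply hpz
      rcases zp h hwz with e | e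
      · rw [conj_eq_one_iff.1 e]; exact one_mem _
      · have e1 : p = g⁻¹ * (g * p * g⁻¹) * g := by group
        have e2 : g⁻¹ * z j * g = z j := by rw [mul_assoc, ← hz]; group
        rw [e1, e, e2]
        exact mem_zpowers _
    have h4 : Nat.card (Z j) = 4 := h.bg.fr.cardZ j
    have h1 : Nat.card (zpowers (z j)) = 2 := by
      rw [Nat.card_zpowers]
      exact orderOf_eq_prime (h.ZJ_sq (h.z_ZJ j)) (h.z1 j)
    have h2 := Subgroup.relIndex_mul_relIndex ⊥ (zpowers (z j)) (Z j) bot_le (zpowers_le.2 (h.zZ j))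
    rw [Subgroup.relIndex_bot_left, Subgroup.relIndex_bot_left, h1, h4] at h2
    have h3 : ((zpowers (z j)).subgroupOf (Z j)).index = 2 := by
      change (zpowers (z j)).relIndex (Z j) = 2
      omega
    have h5 := (Subgroup.mul_mem_iff_of_index_two h3 (a := ⟨p⁻¹, inv_mem hp⟩) (b := ⟨g * p * g⁻¹, hw⟩)).2
    rw [mem_subgroupOf, mem_subgroupOf, mem_subgroupOf] at h5
    have h6 := h5 ⟨fun h2 => absurd (inv_mem_iff.1 h2) hpz, fun h2 => absurd h2 hwz⟩
    change p⁻¹ * (g * p * g⁻¹) ∈ zpowers (z j) at h6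
    rcases zp h h6 with e | e
    · left; exact (inv_mul_eq_one.1 e).symm
    · right; rw [← e]; group
  have h2 : g ^ 2 ∈ centralizer (Z j : Set G) := by
    rw [mem_centralizer_iff]
    intro p hp
    have e2 : g * z j * g⁻¹ = z j := by rw [hz]; group
    have h3 : g ^ 2 * p * (g ^ 2)⁻¹ = p := by
      have e3 : g ^ 2 * p * (g ^ 2)⁻¹ = g * (g * p * g⁻¹) * g⁻¹ := by rw [pow_two]; group
      rw [e3]
      rcases key p hp with e | e
      · rw [e, e]
      · rw [e]
        have e4 : g * (p * z j) * g⁻¹ = (g * p * g⁻¹) * (g * z j * g⁻¹) := by group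
        rw [e4, e, e2, mul_assoc, ← pow_two, h.ZJ_sq (h.z_ZJ j), mul_one]
    calc p * g ^ 2 = (g ^ 2 * p * (g ^ 2)⁻¹) * g ^ 2 := by rw [h3]
      _ = g ^ 2 * p := by group
  obtain ⟨m, hm⟩ := ho
  have e : g = (g ^ 2) ^ (m + 1) := by
    have e1 : g ^ (2 * m + 1) = 1 := by rw [← hm]; exact pow_orderOf_eq_one g
    calc g = g ^ (2 * m + 1) * g := by rw [e1, one_mul]
      _ = (g ^ 2) ^ (m + 1) := by rw [← pow_succ, ← pow_mul]; congr 1
  rw [e]
  exact pow_mem h2 _

theorem odd (i j : Fin 2) (hij : i ≠ j) : ∀ R : Subgroup G, IsMinPar (TT S W) R →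
    R ≤ centralizer (zpowers (z j) : Set G) → ¬ R ≤ centralizer (zpowers (z i) : Set G) →
      ∀ g ∈ R, Odd (orderOf g) → g ∈ centralizer (Z j : Set G) := by
  intro R hR hRj hRi g hg ho
  have hj : j = i + 1 := eq_succ i j hij
  have hY : R ≤ YY z i := by
    rw [← cen_succ, ← hj]; exact hRj
  have hz : ∀ r ∈ R, r * z j = z j * r := fun r hr => (mem_centralizer_iff.1 (hRj hr) _ (mem_zpowers _)).symm
  have hN : R ≤ normalizer (Z j : Set G) := by
    rcases h.par hR hY with h1 | h1 | ⟨L', -, hRL, -, hc⟩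
    · exfalso
      apply hRi
      intro r hr
      have h2 : zpowers (z i) ≤ centralizer ({r} : Set G) := by
        rw [zpowers_le, mem_centralizer_singleton_iff]
        exact (h1 r hr).symm
      exact mem_centralizer_iff.2 fun y hy => mem_centralizer_singleton_iff.1 (h2 hy)
    · exact h1 j
    · exact hRL.trans (sup_le ((hc j hij.symm).trans (centralizer_le_normalizer _)) (h.T_Z j))
  exact odd_cen h (hN hg) (hz g hg) ho

theorem VN (i : Fin 2) : Z (i + 1) ≤ EE (zpowers (z (i + 1))) (centralizer (zpowers (z i) : Set G)) := by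
  intro w hw
  by_cases hw1 : w = 1
  · rw [hw1]; exact one_mem _
  obtain ⟨x, hx, -, -, e⟩ := h.tor hw hw1
  rw [← e, cen_eq]
  exact cj_le_EE hx ⟨z (i + 1), mem_zpowers _, rfl⟩

theorem gen (hp : ∀ i, ∃ f ∈ DD z, f ∈ normalizer (W i : Set G) ∧ f ∉ normalizer (Z i : Set G)) (i : Fin 2) :
    ∀ K' : Subgroup G, centralizer (zpowers (z 0) : Set G) ⊓ centralizer (zpowers (z 1) : Set G) ≤ K' →
      centralizer (zpowers (z (i + 1)) : Set G) ⊓ normalizer (Z i : Set G) ≤ K' →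
        centralizer (zpowers (z (i + 1)) : Set G) ≤ K' := by
  intro K' h1 h2
  rw [inter_eq] at h1
  rw [cen_succ] at h2 ⊢
  exact (h.gen (hp i)).trans (sup_le h1 h2)

theorem nonloc (hE : NLoc (KZ B ZJ)) :
    NonLoc (centralizer (zpowers (z 0) : Set G)) (centralizer (zpowers (z 1) : Set G)) := by
  intro U hU h0 h1
  have hY : ∀ i, YY z i ≤ normalizer (U : Set G) := by
    intro i
    rw [← cen_succ]
    fin_cases i
    · exact h1
    · exact h0
  refine hE U hU (sup_le (h.cZJ_D.trans ((DD_le_CT (s := {(0 : Fin 2)}ᶜ)).trans (hY 0))) (iSup_le ?_))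
  rintro ⟨⟨L', V'⟩, hb⟩
  obtain ⟨i, -, hc⟩ := h.uni L' V' hb
  refine le_trans (fun x hx => mem_YY.2 fun l hl => ?_) (hY i)
  exact hc _ (h.z_ZJ l) (h.bg.fr.WjC i l (Ne.symm hl) (h.z_W l)) x hx

end Cfsg.Agent.Omega.NO3S.EThree.FourTwo

end

-- merged: Cfsg.Agent.Mrg.Omega.KL.TwoG.Fr
section

section


/-!
# Two centres with a generation hypothesis (helper764 #23526, (4F), `k = 2`)

`KL/TwoZ` (helper391) for movers which need not normalise `V i`: `T` is a Sylow 2-subgroup of `C_i = C_G(Z i)`,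
`D = C_0 ∩ C_1`, `O = O₂(D)` centralises `V i ≥ Z i`, `⟨C_0, C_1⟩` is nonlocal, `V (i+1) ≤ N_i = ⟨Z (i+1) ^ C_i⟩`, and
**`C_{i+1}` is generated by `D` and `C_{i+1} ∩ N(V i)`** (`gen`; in (4F) the normaliser of `W i` in `C_{i+1}` induces `A₇`
on `W i`).  `Z i = ⟨z_i⟩`, `V i = Z_i` of order 4.

* `Fr` : the frame.
-/

set_option autoImplicit false
set_option linter.unusedSectionVars false

namespace Cfsg.Agent.Omega.KL.TwoG

open Subgroup Cfsg Cfsg.Agent.Omega.MinPar
open Cfsg.Agent.ZN (o2 zc)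
open Cfsg.Agent.Omega.OM.KTwo (ne_add_one eq_add_one add_one_add_one le_normalizer_V le_V exists_mul_of_mem_sup)
open Cfsg.Agent.MinSimple.MinParabolic (IsMinPar)
open Cfsg.Agent.Omega.NoFF.Basic (conj_conj mem_conj conj_le_iff comm_symm comm_mono Z_le_V V_le)
open Cfsg.Agent.Omega.NOThreeL.Pair (conj_eq_of_mem conj_le_normalizer)
open Cfsg.Agent.Omega.NoFF.ThmJFam (card_sup_inf card_conj)
open Cfsg.Agent.ZN.ChoiceSit (Syl exists_syl syl_conj o2_le_syl)
open Cfsg.Agent.MinSimple.VModule (mem_zc zc_le normalizer_le_normalizer_zc le_o2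
  o2_isPGroup o2_le zc_le_centralizer le_centralizer_zc le_normalizer_o2)
open Cfsg.Agent.Omega.TC.LemZ (card_eq le_norm_of norm_cent norm_inf)
open Cfsg.Agent.Omega.KL.TwoS (Mx comm_of_sq sq_sup relIndex_le_of_sup sup_of_relIndex_le)
open Cfsg.Agent.Omega.KL.TwoZ (CC QQ NH NN WW UU HH V_le_of norm_V norm_o2_of sq_conj sq_V)
open scoped Pointwise

universe u

variable {G : Type u} [Group G]

/-- `D = C_0 ∩ C_1` -/
abbrev DD (Z : Fin 2 → Subgroup G) : Subgroup G := CC Z 0 ⊓ CC Z 1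

/-- **the frame** -/
structure Fr [Finite G] (T : Subgroup G) (V Z : Fin 2 → Subgroup G) : Prop where
  char2 : ∀ i, centralizer (Z i : Set G) ⊓ centralizer (o2 (centralizer (Z i : Set G)) : Set G) ≤
    o2 (centralizer (Z i : Set G))
  sqV : ∀ i, ∀ x ∈ V i, x ^ 2 = 1
  ZV : ∀ i, Z i ≤ V i
  ne : ∀ i, Z i ≠ ⊥
  syl : ∀ i, Syl T (centralizer (Z i : Set G))
  nT : ∀ i, centralizer (Z i : Set G) ⊓ normalizer (T : Set G) ≤
    normalizer (Z (i + 1) : Set G) ⊓ normalizer (V i : Set G)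
  nV : ∀ i, T ≤ normalizer (V i : Set G)
  cV : ∀ i, ∀ w ∈ V i, w ∈ centralizer (T : Set G) → w ∈ Z i
  OV : ∀ i, o2 (centralizer (Z 0 : Set G) ⊓ centralizer (Z 1 : Set G)) ≤ centralizer (V i : Set G)
  VN : ∀ i, V (i + 1) ≤ NoFF.Basic.V (Z (i + 1)) (centralizer (Z i : Set G))
  sti : ∀ i, ∀ w ∈ Z (i + 1), w ≠ 1 →
    centralizer (Z i : Set G) ⊓ centralizer ({w} : Set G) ≤ normalizer (Z (i + 1) : Set G)
  odd : ∀ i j, i ≠ j → ∀ R : Subgroup G, IsMinPar T R → R ≤ centralizer (Z j : Set G) →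
    ¬ R ≤ centralizer (Z i : Set G) → ∀ g ∈ R, Odd (orderOf g) → g ∈ centralizer (V j : Set G)
  gen : ∀ i, ∀ K : Subgroup G, centralizer (Z 0 : Set G) ⊓ centralizer (Z 1 : Set G) ≤ K →
    centralizer (Z (i + 1) : Set G) ⊓ normalizer (V i : Set G) ≤ K → centralizer (Z (i + 1) : Set G) ≤ K
  nonloc : NonLoc (centralizer (Z 0 : Set G)) (centralizer (Z 1 : Set G))

namespace Fr

variable [Finite G] {T : Subgroup G} {V Z : Fin 2 → Subgroup G} (D : Fr T V Z)

include D

/-! ### Easy facts -/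

theorem T_isPGroup : IsPGroup 2 T := (D.syl 0).2.1

theorem T_le_C (i : Fin 2) : T ≤ CC Z i := (D.syl i).1

theorem Z_sq (i : Fin 2) : ∀ z ∈ Z i, z ^ 2 = 1 := fun z hz => D.sqV i z (D.ZV i hz)

theorem Q_le_T (i : Fin 2) : QQ Z i ≤ T := o2_le_syl (D.syl i)

theorem Z_le_T (i : Fin 2) : Z i ≤ T := by
  have h1 : Z i ≤ CC Z i := comm_of_sq (D.Z_sq i)
  have h2 : Z i ≤ centralizer (QQ Z i : Set G) := comm_symm (o2_le _)
  exact (le_inf h1 h2).trans ((D.char2 i).trans (D.Q_le_T i))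

theorem comm_Z (i : Fin 2) : T ≤ centralizer (Z i : Set G) := D.T_le_C i

theorem Z_cent_T (i : Fin 2) : Z i ≤ centralizer (T : Set G) := comm_symm (D.T_le_C i)

theorem Z_le_Q (i j : Fin 2) : Z j ≤ QQ Z i := by
  refine le_trans (le_inf ((D.Z_le_T j).trans (D.T_le_C i)) ?_) (D.char2 i)
  exact (D.Z_cent_T j).trans (centralizer_le (D.Q_le_T i))

omit D in
theorem D_le (i : Fin 2) : DD Z ≤ CC Z i := by
  rcases Fin.exists_fin_two.1 ⟨i, rfl⟩ with h | h
  · rw [h]; exact inf_le_left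
  · rw [h]; exact inf_le_right

omit D in
theorem le_D {i : Fin 2} {H : Subgroup G} (h : H ≤ CC Z i) (h' : H ≤ CC Z (i + 1)) : H ≤ DD Z := by
  rcases Fin.exists_fin_two.1 ⟨i, rfl⟩ with e | e
  · subst e; exact le_inf h h'
  · subst e; exact le_inf h' h

omit D in
theorem mem_D {i : Fin 2} {c : G} (h : c ∈ CC Z i) (h' : c ∈ CC Z (i + 1)) : c ∈ DD Z := by
  rcases Fin.exists_fin_two.1 ⟨i, rfl⟩ with e | e
  · subst e; exact ⟨h, h'⟩
  · subst e; exact ⟨h', h⟩

theorem T_le_D : T ≤ DD Z := le_inf (D.T_le_C 0) (D.T_le_C 1)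

theorem syl_D : Syl T (DD Z) :=
  ⟨D.T_le_D, D.T_isPGroup, fun R hR hR2 hTR => (D.syl 0).2.2 R (hR.trans (D_le 0)) hR2 hTR⟩

theorem O_le_T : o2 (DD Z) ≤ T := o2_le_syl D.syl_D

theorem Q_le_O (i : Fin 2) : QQ Z i ≤ o2 (DD Z) :=
  le_o2 ((D.Q_le_T i).trans D.T_le_D) (o2_isPGroup _) ((D_le i).trans (le_normalizer_o2 _))

theorem VQ (i : Fin 2) : V i ≤ QQ Z i := by
  have h1 : V i ≤ CC Z i := (comm_of_sq (D.sqV i)).trans (centralizer_le (D.ZV i))
  have h2 : V i ≤ centralizer (QQ Z i : Set G) := comm_symm ((D.Q_le_O i).trans (D.OV i))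
  exact (le_inf h1 h2).trans (D.char2 i)

theorem VC (i : Fin 2) : ∀ c ∈ centralizer (Z i : Set G), MulAut.conj c • V i ≤ centralizer (V i : Set G) := by
  intro c hc
  have e1 : MulAut.conj c • QQ Z i = QQ Z i := conj_eq_of_mem (le_normalizer_o2 _ hc)
  have h1 : MulAut.conj c • V i ≤ QQ Z i := by rw [← e1]; exact conj_le_iff.2 (D.VQ i)
  exact (h1.trans (D.Q_le_O i)).trans (D.OV i)

theorem nonloc' {i : Fin 2} {W : Subgroup G} (hW : IsPGroup 2 W) (h : CC Z i ≤ normalizer (W : Set G))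
    (h' : CC Z (i + 1) ≤ normalizer (W : Set G)) : W = ⊥ := by
  rcases Fin.exists_fin_two.1 ⟨i, rfl⟩ with e | e
  · subst e; exact D.nonloc W hW h h'
  · subst e; exact D.nonloc W hW h' h

/-- the normaliser of `Z (i+1)` in `C_i` normalises `D` -/
theorem norm_D (i : Fin 2) : CC Z i ⊓ normalizer (Z (i + 1) : Set G) ≤
    normalizer ((DD Z : Subgroup G) : Set G) := by
  refine le_norm_of fun g hg d hd => mem_D (i := i) ?_ ?_
  · exact mul_mem (mul_mem hg.1 (D_le i hd)) (inv_mem hg.1)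
  · exact (mem_normalizer_iff.1 (norm_cent (A := normalizer (Z (i + 1) : Set G)) le_rfl hg.2) d).1 (D_le _ hd)

/-! ### `N_i` -/

theorem N_le (i : Fin 2) {X : Subgroup G} (hX : CC Z i ≤ normalizer (X : Set G)) (h : Z (i + 1) ≤ X) : NN Z i ≤ X :=
  V_le_of h hX

theorem N_le_Q (i : Fin 2) : NN Z i ≤ QQ Z i := V_le_of (D.Z_le_Q i (i + 1)) (le_normalizer_o2 _)

theorem N_le_cent_Q (i : Fin 2) : NN Z i ≤ centralizer (QQ Z i : Set G) :=
  V_le_of ((D.Z_cent_T (i + 1)).trans (centralizer_le (D.Q_le_T i))) (norm_cent (le_normalizer_o2 _))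

theorem Q_le_cent_N (i : Fin 2) : QQ Z i ≤ centralizer (NN Z i : Set G) := comm_symm (D.N_le_cent_Q i)

theorem N_comm (i : Fin 2) : NN Z i ≤ centralizer (NN Z i : Set G) := (D.N_le_Q i).trans (D.Q_le_cent_N i)

theorem N_le_O (i : Fin 2) : NN Z i ≤ o2 (DD Z) := (D.N_le_Q i).trans (D.Q_le_O i)

theorem N_le_C (i j : Fin 2) : NN Z i ≤ CC Z j := ((D.N_le_Q i).trans (D.Q_le_T i)).trans (D.T_le_C j)

theorem N_sq (i : Fin 2) : ∀ x ∈ NN Z i, x ^ 2 = 1 := sq_V (D.Z_sq (i + 1)) (D.N_comm i)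

/-- a normal subgroup of `C_i` which centralises `Z (i+1)` centralises `N_i` -/
theorem cent_N_of_le {i : Fin 2} {X : Subgroup G} (hn : CC Z i ≤ normalizer (X : Set G)) (hX : X ≤ CC Z (i + 1)) :
    X ≤ centralizer (NN Z i : Set G) :=
  comm_symm (V_le_of (comm_symm hX) (norm_cent hn))

theorem cent_N_le (i : Fin 2) : centralizer (NN Z i : Set G) ≤ CC Z (i + 1) := centralizer_le (le_V _ _)

/-- `C_O(N_i) = Q_i` -/
theorem O_inf_le (i : Fin 2) : o2 (DD Z) ⊓ centralizer (NN Z i : Set G) ≤ QQ Z i := by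
  have h1 := GenTool.o2_inf_le (L := CC Z i) (N := CC Z i ⊓ centralizer (NN Z i : Set G))
    (R := DD Z) inf_le_left
    (fun g hg x hx => ⟨(CC Z i).mul_mem ((CC Z i).mul_mem hg hx.1) ((CC Z i).inv_mem hg),
      (mem_normalizer_iff.1 (norm_cent (le_normalizer_V (Z (i + 1)) (CC Z i)) hg) x).1 hx.2⟩)
    (fun x hx => mem_D hx.1 (D.cent_N_le i hx.2))
  refine le_trans ?_ h1
  exact le_inf inf_le_left (le_inf ((inf_le_left.trans D.O_le_T).trans (D.T_le_C i)) inf_le_right)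

theorem exists_move (i : Fin 2) : ¬ CC Z i ≤ CC Z (i + 1) := by
  intro h1
  have h2 := D.nonloc' (i := i) (W := QQ Z (i + 1)) (o2_isPGroup _) (h1.trans (le_normalizer_o2 _))
    (le_normalizer_o2 _)
  have h3 := D.Z_le_Q (i + 1) i
  rw [h2, le_bot_iff] at h3
  exact D.ne i h3

/-- `V (i+1) ≤ N_i` -/
theorem V_le_N (i : Fin 2) : V (i + 1) ≤ NN Z i := D.VN i

/-! ### `W_i`, `U_i` -/

theorem cent_V_le (i : Fin 2) : centralizer (V i : Set G) ≤ CC Z i := centralizer_le (D.ZV i)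

theorem U_le_N (i : Fin 2) : UU V Z i ≤ NN Z i :=
  V_le_of (le_V _ _) ((D.cent_V_le i).trans (le_normalizer_V _ _))

theorem U_sq (i : Fin 2) : ∀ x ∈ UU V Z i, x ^ 2 = 1 := fun x hx => D.N_sq i x (D.U_le_N i hx)

theorem norm_U (i : Fin 2) : normalizer (V i : Set G) ⊓ normalizer (Z (i + 1) : Set G) ≤
    normalizer (UU V Z i : Set G) :=
  norm_V inf_le_right (inf_le_left.trans (norm_cent (A := normalizer (V i : Set G)) le_rfl))

theorem H_le_C (i : Fin 2) : HH T V i ≤ CC Z i := sup_le (D.cent_V_le i) (D.T_le_C i)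

theorem T_le_H (i : Fin 2) : T ≤ HH T V i := le_sup_right

theorem H_le_norm_U (i : Fin 2) : HH T V i ≤ normalizer (UU V Z i : Set G) :=
  sup_le (le_normalizer_V _ _)
    ((le_inf (D.nV i) ((D.T_le_C _).trans (centralizer_le_normalizer _))).trans (D.norm_U i))

theorem NH_H (i : Fin 2) : NH Z i (HH T V i) = UU V Z i := by
  apply le_antisymm
  · exact V_le_of (le_V _ _) (D.H_le_norm_U i)
  · exact V_le_of (le_V _ _) (le_sup_left.trans (le_normalizer_V _ _))

theorem W_le_Q (i : Fin 2) : WW V Z i ≤ QQ Z i := V_le_of (D.VQ i) (le_normalizer_o2 _)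

theorem W_comm (i : Fin 2) : WW V Z i ≤ centralizer (WW V Z i : Set G) := by
  refine V_le fun c hc => comm_symm (V_le fun d hd => ?_)
  have h1 := D.VC i (c⁻¹ * d) (mul_mem (inv_mem hc) hd)
  have h2 : MulAut.conj c • (MulAut.conj (c⁻¹ * d) • V i) ≤ MulAut.conj c • centralizer (V i : Set G) :=
    conj_le_iff.2 h1
  rw [conj_conj, mul_inv_cancel_left, NoFF.ThmJFam.conj_cent] at h2
  exact h2

theorem W_sq (i : Fin 2) : ∀ x ∈ WW V Z i, x ^ 2 = 1 := sq_V (D.sqV i) (D.W_comm i)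

end Fr

end Cfsg.Agent.Omega.KL.TwoG

end

section


/-!
# EX for two centres, with the generation hypothesis `gen` (helper764 #23526; helper391's `KL/TwoZ/Ex`)

* `Fr.no_H`, `Fr.no_N` : (NO); `Fr.mx`, `Fr.ex_U`; `Fr.SS_inv` uses `gen`; `Fr.not_both`;
* **`Fr.ex`** : `∃ i X B, Out T V Z i X B`.
-/

set_option autoImplicit false
set_option linter.unusedSectionVars false

namespace Cfsg.Agent.Omega.KL.TwoG

open Subgroup Cfsg Cfsg.Agent.Omega.MinPar
open Cfsg.Agent.ZN (o2 zc)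
open Cfsg.Agent.Omega.OM.KTwo (ne_add_one eq_add_one add_one_add_one le_normalizer_V le_V exists_mul_of_mem_sup)
open Cfsg.Agent.MinSimple.MinParabolic (IsMinPar)
open Cfsg.Agent.Omega.NoFF.Basic (conj_conj mem_conj conj_le_iff comm_symm comm_mono Z_le_V V_le)
open Cfsg.Agent.Omega.NOThreeL.Pair (conj_eq_of_mem conj_le_normalizer)
open Cfsg.Agent.Omega.NoFF.ThmJFam (card_sup_inf card_conj conj_cent conj_inf)
open Cfsg.Agent.ZN.ChoiceSit (Syl exists_syl syl_conj o2_le_syl)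
open Cfsg.Agent.MinSimple.VModule (mem_zc zc_le normalizer_le_normalizer_zc le_o2
  o2_isPGroup o2_le zc_le_centralizer le_centralizer_zc le_normalizer_o2)
open Cfsg.Agent.Omega.TC (kgroup_mono)
open Cfsg.Agent.Omega.TC.LemZ (card_eq le_norm_of norm_cent norm_inf)
open Cfsg.Agent.Omega.KL.TwoS (Mx comm_of_sq sq_sup relIndex_le_of_sup sup_of_relIndex_le relIndex_pos relIndex_mono
  relIndex_anti relIndex_split)
open Cfsg.Agent.Omega.KL.TwoZ (CC QQ NH NN WW UU HH V_le_of norm_V norm_o2_of sq_conj sq_V MM)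
open scoped Pointwise

universe u

variable {G : Type u} [Group G]

namespace Fr

variable [Finite G] {T : Subgroup G} {V Z : Fin 2 → Subgroup G} (D : Fr T V Z)

include D

/-- **(NO)** for `H` on `⟨Z (i+1) ^ H⟩` -/
theorem no_H (hML : ML.Final.MLK.{u, u}) {i : Fin 2} {H A : Subgroup G} (hK : IsKGroup (CC Z i)) (hT : T ≤ H)
    (hH : H ≤ CC Z i) (hA : A ≤ o2 (DD Z)) (hA2 : ∀ a ∈ A, a ^ 2 = 1) :
    (centralizer (NH Z i H : Set G)).relIndex A ≤ (centralizer (A : Set G)).relIndex (NH Z i H) := by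
  obtain ⟨w, hw, hw1⟩ : ∃ w ∈ Z (i + 1), w ≠ 1 := by
    by_contra hc
    push Not at hc
    exact D.ne (i + 1) (eq_bot_iff.2 fun x hx => mem_bot.2 (hc x hx))
  have hAH : A ≤ H := (hA.trans D.O_le_T).trans hT
  -- `W = ⟨w ^ H⟩`
  set W : Subgroup G := NoFF.Basic.V (zpowers w) H with hW
  have hwW : w ∈ W := le_V _ _ (mem_zpowers w)
  have hHW : H ≤ normalizer (W : Set G) := le_normalizer_V _ _
  have hWU : W ≤ NH Z i H := V_le_of ((zpowers_le.2 hw).trans (le_V _ _)) (le_normalizer_V _ _)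
  have hUN : NH Z i H ≤ NN Z i := V_le_of (le_V _ _) (hH.trans (le_normalizer_V _ _))
  have hWN : W ≤ NN Z i := hWU.trans hUN
  have hst : ∀ g ∈ H, g * w * g⁻¹ * w⁻¹ ∈ (⊥ : Subgroup G) →
      g ∈ normalizer ((DD Z : Subgroup G) : Set G) := by
    intro g hg h
    rw [mem_bot, mul_inv_eq_one] at h
    have h1 : g ∈ centralizer ({w} : Set G) := by
      rw [mem_centralizer_singleton_iff]
      calc g * w = (g * w * g⁻¹) * g := by group
        _ = w * g := by rw [h]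
    exact D.norm_D i ⟨hH hg, D.sti i w hw hw1 ⟨hH hg, h1⟩⟩
  have hmain : (A ⊓ centralizer (W : Set G)).relIndex A ≤ (W ⊓ centralizer (A : Set G)).relIndex W := by
    refine hML.grp (C := H) (W := W) (Y := ⊥) (T := T) (Q := o2 (DD Z) ⊓ H) (A := A)
      (w := w) (kgroup_mono hK hH) ?_ (KA := A ⊓ centralizer (W : Set G))
      (CW := W ⊓ centralizer (A : Set G)) ?_ ?_
    · refine ⟨hHW, ?_, bot_le, ?_, ?_, hwW, ?_, hT, D.T_isPGroup, ?_, ?_, inf_le_right,
        (o2_isPGroup _).to_le inf_le_left, ?_, ?_, le_inf hA hAH, ?_⟩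
      · exact fun h _ => by
          rw [mem_normalizer_iff]
          intro x
          rw [mem_bot, mem_bot, conj_eq_one_iff]
      · exact fun h _ => by
          rw [mem_normalizer_iff]
          intro x
          rw [mem_bot, mem_bot, conj_eq_one_iff]
      · intro x hx
        rw [← pow_two, D.N_sq i x (hWN hx)]
        exact one_mem _
      · intro U hU _ hHU
        exact V_le_of (zpowers_le.2 hU) hHU
      · have hS : Syl T H := ⟨hT, D.T_isPGroup, fun R hR hR2 hTR => (D.syl i).2.2 R (hR.trans hH) hR2 hTR⟩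
        exact Cfsg.Agent.ZN.ChoiceSit.syl_not_dvd hS
      · intro t ht
        have h1 := mem_centralizer_iff.1 (D.T_le_C (i + 1) ht) w hw
        rw [← h1, mul_inv_cancel_right, mul_inv_cancel]
        exact one_mem _
      · intro q hq
        have h1 := mem_centralizer_iff.1 (D_le (i + 1) (o2_le _ hq.1)) w hw
        rw [← h1, mul_inv_cancel_right, mul_inv_cancel]
        exact one_mem _
      · intro g hg hgY q hq
        have h1 := norm_o2_of (hst g hg hgY)
        exact mem_inf.2 ⟨(mem_normalizer_iff.1 h1 q).1 hq.1, H.mul_mem (H.mul_mem hg hq.2) (H.inv_mem hg)⟩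
      · intro a ha x _
        have h1 : a * a = 1 := by rw [← pow_two]; exact hA2 a ha
        have e : a * (a * x * a⁻¹) * a⁻¹ * x⁻¹ = (a * a) * x * (a * a)⁻¹ * x⁻¹ := by group
        rw [e, h1]
        simp
    · intro a
      constructor
      · rintro ⟨h1, h2⟩
        refine ⟨h1, fun x hx => ?_⟩
        have h3 := mem_centralizer_iff.1 h2 x hx
        rw [← h3, mul_inv_cancel_right, mul_inv_cancel]
        exact one_mem _
      · rintro ⟨h1, h2⟩
        refine ⟨h1, mem_centralizer_iff.2 fun x hx => ?_⟩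
        have h3 := h2 x hx
        rw [mem_bot, mul_inv_eq_one] at h3
        calc x * a = (a * x * a⁻¹) * a := by rw [h3]
          _ = a * x := by group
    · intro x
      constructor
      · rintro ⟨h1, h2⟩
        refine ⟨h1, fun a ha => ?_⟩
        rw [mem_centralizer_iff.1 h2 a ha, mul_inv_cancel_right, mul_inv_cancel]
        exact one_mem _
      · rintro ⟨h1, h2⟩
        refine ⟨h1, mem_centralizer_iff.2 fun a ha => ?_⟩
        have h3 := h2 a ha
        rw [mem_bot, mul_inv_eq_one] at h3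
        calc a * x = (a * x * a⁻¹) * a := by group
          _ = x * a := by rw [h3]
  rw [inf_relIndex_left, inf_relIndex_left] at hmain
  -- `C_A(W) ≤ O₂(H)` centralises `⟨Z (i+1) ^ H⟩`
  have hker : A ⊓ centralizer (W : Set G) ≤ centralizer (NH Z i H : Set G) := by
    set H₁ : Subgroup G := H ⊓ centralizer ({w} : Set G) with hH₁
    have hTH₁ : T ≤ H₁ := le_inf hT ((D.T_le_C (i + 1)).trans (centralizer_le (Set.singleton_subset_iff.2 hw)))
    -- `A ≤ O₂(H₁)`
    have h1 : A ≤ o2 H₁ := by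
      have h2 : o2 (DD Z) ⊓ H₁ ≤ o2 H₁ := by
        refine le_o2 inf_le_right ((o2_isPGroup _).to_le inf_le_left) ?_
        refine le_norm_of fun g hg q hq => ?_
        have h3 : g ∈ normalizer ((o2 (DD Z) : Subgroup G) : Set G) :=
          norm_o2_of (D.norm_D i ⟨hH hg.1, D.sti i w hw hw1 ⟨hH hg.1, hg.2⟩⟩)
        exact ⟨(mem_normalizer_iff.1 h3 q).1 hq.1, H₁.mul_mem (H₁.mul_mem hg hq.2) (H₁.inv_mem hg)⟩
      exact (le_inf hA ((hA.trans D.O_le_T).trans hTH₁)).trans h2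
    have h2 := GenTool.o2_inf_le (L := H) (N := H ⊓ centralizer (W : Set G)) (R := H₁) inf_le_left
      (fun g hg x hx => ⟨H.mul_mem (H.mul_mem hg hx.1) (H.inv_mem hg),
        (mem_normalizer_iff.1 (norm_cent hHW hg) x).1 hx.2⟩)
      (le_inf inf_le_left (inf_le_right.trans (centralizer_le (Set.singleton_subset_iff.2 hwW))))
    have h3 : A ⊓ centralizer (W : Set G) ≤ o2 H :=
      (le_inf (inf_le_left.trans h1) (le_inf (inf_le_left.trans hAH) inf_le_right)).trans h2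
    refine h3.trans (comm_symm (V_le_of ?_ (norm_cent (le_normalizer_o2 _))))
    have hS : Syl T H := ⟨hT, D.T_isPGroup, fun R hR hR2 hTR => (D.syl i).2.2 R (hR.trans hH) hR2 hTR⟩
    exact (D.Z_cent_T (i + 1)).trans (centralizer_le (o2_le_syl hS))
  calc (centralizer (NH Z i H : Set G)).relIndex A ≤ (A ⊓ centralizer (W : Set G)).relIndex A := relIndex_anti hker
    _ = (centralizer (W : Set G)).relIndex A := inf_relIndex_left _ _
    _ ≤ (centralizer (A : Set G)).relIndex W := hmain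
    _ ≤ _ := relIndex_mono hWU

theorem no_N (hML : ML.Final.MLK.{u, u}) {i : Fin 2} {A : Subgroup G} (hK : IsKGroup (CC Z i))
    (hA : A ≤ o2 (DD Z)) (hA2 : ∀ a ∈ A, a ^ 2 = 1) :
    (centralizer (NN Z i : Set G)).relIndex A ≤ (centralizer (A : Set G)).relIndex (NN Z i) :=
  D.no_H hML hK (D.T_le_C i) le_rfl hA hA2

/-- `A` maximal in `O` : exact on `N_i`, `C_A(N_i) N_i` is maximal and `≤ Q_i` -/
theorem mx (hML : ML.Final.MLK.{u, u}) {i : Fin 2} {A : Subgroup G} (hK : IsKGroup (CC Z i))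
    (hA : Mx (o2 (DD Z)) A) :
    (centralizer (NN Z i : Set G)).relIndex A = (centralizer (A : Set G)).relIndex (NN Z i) ∧
    Mx (o2 (DD Z)) (A ⊓ centralizer (NN Z i : Set G) ⊔ NN Z i) ∧
    A ⊓ centralizer (NN Z i : Set G) ⊔ NN Z i ≤ QQ Z i := by
  have h1 := D.no_N hML hK hA.le hA.sq
  refine ⟨le_antisymm h1 (hA.thom (D.N_le_O i) (D.N_sq i)), hA.sup (D.N_le_O i) (D.N_sq i) h1, sup_le ?_ (D.N_le_Q i)⟩
  exact (inf_le_inf_right _ hA.le).trans (D.O_inf_le i)

/-- `B = C_A(U_i)` -/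
theorem ex_U (hML : ML.Final.MLK.{u, u}) {i : Fin 2} {A : Subgroup G} (hK : IsKGroup (CC Z i))
    (hA : Mx (o2 (DD Z)) A) :
    A ⊓ centralizer (UU V Z i : Set G) ≤ o2 (HH T V i) ∧
    (centralizer (NN Z i : Set G)).relIndex (A ⊓ centralizer (UU V Z i : Set G)) =
      (centralizer ((A ⊓ centralizer (UU V Z i : Set G) : Subgroup G) : Set G)).relIndex (NN Z i) ∧
    Mx (o2 (DD Z)) (A ⊓ centralizer (UU V Z i : Set G) ⊔ UU V Z i) := by
  set B : Subgroup G := A ⊓ centralizer (UU V Z i : Set G) with hB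
  have hUN := D.U_le_N i
  have hCN : centralizer (NN Z i : Set G) ≤ centralizer (UU V Z i : Set G) := centralizer_le hUN
  have hUno := D.no_H hML hK (D.T_le_H i) (D.H_le_C i) hA.le hA.sq
  rw [D.NH_H] at hUno
  refine ⟨?_, ?_, hA.sup (hUN.trans (D.N_le_O i)) (D.U_sq i) hUno⟩
  · have h1 := GenTool.o2_inf_le (L := HH T V i) (N := HH T V i ⊓ centralizer (UU V Z i : Set G))
      (R := DD Z) inf_le_left
      (fun g hg x hx => ⟨(HH T V i).mul_mem ((HH T V i).mul_mem hg hx.1) ((HH T V i).inv_mem hg),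
        (mem_normalizer_iff.1 (norm_cent (D.H_le_norm_U i) hg) x).1 hx.2⟩)
      (fun x hx => mem_D (D.H_le_C i hx.1)
        (centralizer_le (le_V (Z (i + 1)) (centralizer (V i : Set G))) hx.2))
    refine le_trans ?_ h1
    exact le_inf (inf_le_left.trans hA.le) (le_inf ((inf_le_left.trans (hA.le.trans D.O_le_T)).trans (D.T_le_H i))
      inf_le_right)
  · -- counting
    have hA1 := (D.mx hML hK hA).1
    have s1 := relIndex_split (A := A) hCN
    rw [← hB] at s1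
    have hCC : centralizer (A : Set G) ≤ centralizer (B : Set G) := centralizer_le inf_le_left
    have s2 := relIndex_split (A := NN Z i) hCC
    have hUB : UU V Z i ≤ NN Z i ⊓ centralizer (B : Set G) := le_inf hUN (comm_symm inf_le_right)
    have h3 : (centralizer (UU V Z i : Set G)).relIndex A ≤
        (centralizer (A : Set G)).relIndex (NN Z i ⊓ centralizer (B : Set G)) := hUno.trans (relIndex_mono hUB)
    have h4 := D.no_N hML hK (A := B) (inf_le_left.trans hA.le) (fun b hb => hA.sq b hb.1)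
    refine le_antisymm h4 ?_
    by_contra hc
    push Not at hc
    rw [hA1, s2] at s1
    have p1 := relIndex_pos (centralizer (UU V Z i : Set G)) A
    have h5 : (centralizer (NN Z i : Set G)).relIndex B * (centralizer (UU V Z i : Set G)).relIndex A <
        (centralizer (A : Set G)).relIndex (NN Z i ⊓ centralizer (B : Set G)) * (centralizer (B : Set G)).relIndex (NN Z i) := by
      calc (centralizer (NN Z i : Set G)).relIndex B * (centralizer (UU V Z i : Set G)).relIndex A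
          < (centralizer (B : Set G)).relIndex (NN Z i) * (centralizer (UU V Z i : Set G)).relIndex A :=
            Nat.mul_lt_mul_of_pos_right hc p1
        _ ≤ (centralizer (B : Set G)).relIndex (NN Z i) *
            (centralizer (A : Set G)).relIndex (NN Z i ⊓ centralizer (B : Set G)) := Nat.mul_le_mul_left _ h3
        _ = _ := Nat.mul_comm _ _
    exact absurd s1.symm h5.ne

end Fr

/-- `Fail i` : `C_A(U_i) = C_A(N_i)` for all maximal `A ≤ Q_{i+1}` -/
def Fail (T : Subgroup G) (V Z : Fin 2 → Subgroup G) (i : Fin 2) : Prop :=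
  ∀ A : Subgroup G, Mx (o2 (DD Z)) A → A ≤ QQ Z (i + 1) →
    A ⊓ centralizer (UU V Z i : Set G) ≤ centralizer (NN Z i : Set G)

/-- `{C_A(N_i) N_i : A ≤ Q_{i+1} maximal}` -/
def SS (T : Subgroup G) (Z : Fin 2 → Subgroup G) (i : Fin 2) : Set (Subgroup G) :=
  {X | ∃ A : Subgroup G, Mx (o2 (DD Z)) A ∧ A ≤ QQ Z (i + 1) ∧
    X = A ⊓ centralizer (NN Z i : Set G) ⊔ NN Z i}

namespace Fr

variable [Finite G] {T : Subgroup G} {V Z : Fin 2 → Subgroup G} (D : Fr T V Z)

include D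

theorem fail_eq (hML : ML.Final.MLK.{u, u}) {i : Fin 2} (hK : IsKGroup (CC Z i)) (hF : Fail T V Z i)
    {A : Subgroup G} (hA : Mx (o2 (DD Z)) A) (hAQ : A ≤ QQ Z (i + 1)) :
    A ⊓ centralizer (NN Z i : Set G) ⊔ NN Z i = A ⊓ centralizer (UU V Z i : Set G) ⊔ UU V Z i := by
  have h1 := (D.mx hML hK hA).2.1
  have h2 := (D.ex_U hML hK hA).2.2
  have h3 : A ⊓ centralizer (UU V Z i : Set G) ⊔ UU V Z i ≤ A ⊓ centralizer (NN Z i : Set G) ⊔ NN Z i :=
    sup_le_sup (le_inf inf_le_left (hF A hA hAQ)) (D.U_le_N i)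
  exact (Subgroup.eq_of_le_of_card_ge h3 (h2.max _ h1.le h1.sq)).symm

/-- one step of the invariance of `SS i` -/
theorem SS_step (hML : ML.Final.MLK.{u, u}) {i : Fin 2} (hK : IsKGroup (CC Z i)) (hF : Fail T V Z i) {g : G}
    (hg : g ∈ CC Z (i + 1)) (hg2 : g ∈ CC Z i ∨ g ∈ normalizer (V i : Set G)) {X : Subgroup G} (hX : X ∈ SS T Z i) :
    MulAut.conj g • X ∈ SS T Z i := by
  obtain ⟨A, hA, hAQ, rfl⟩ := hX
  have e1 : MulAut.conj g • QQ Z (i + 1) = QQ Z (i + 1) := conj_eq_of_mem (le_normalizer_o2 _ hg)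
  have hAg : MulAut.conj g • A ≤ QQ Z (i + 1) := by rw [← e1]; exact conj_le_iff.2 hAQ
  have hMg := hA.conj (g := g) (hAg.trans (D.Q_le_O _))
  refine ⟨MulAut.conj g • A, hMg, hAg, ?_⟩
  rcases hg2 with h | h
  · have e2 : MulAut.conj g • NN Z i = NN Z i := conj_eq_of_mem (le_normalizer_V _ _ h)
    rw [Subgroup.smul_sup, conj_inf, conj_cent, e2]
  · have e2 : MulAut.conj g • UU V Z i = UU V Z i := conj_eq_of_mem (D.norm_U i ⟨h, centralizer_le_normalizer _ hg⟩)
    rw [D.fail_eq hML hK hF hA hAQ, D.fail_eq hML hK hF hMg hAg, Subgroup.smul_sup, conj_inf, conj_cent, e2]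

/-- **`SS i` is `C_{i+1}`-invariant** -/
theorem SS_inv (hML : ML.Final.MLK.{u, u}) {i : Fin 2} (hK : IsKGroup (CC Z i)) (hF : Fail T V Z i) {g : G}
    (hg : g ∈ CC Z (i + 1)) {X : Subgroup G} (hX : X ∈ SS T Z i) : MulAut.conj g • X ∈ SS T Z i := by
  let K : Subgroup G :=
    { carrier := {g | ∀ X, X ∈ SS T Z i ↔ MulAut.conj g • X ∈ SS T Z i}
      one_mem' := fun X => by rw [map_one, one_smul]
      mul_mem' := by
        intro a b ha hb X
        rw [hb X, ha, conj_conj]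
      inv_mem' := by
        intro a ha X
        have h := ha (MulAut.conj a⁻¹ • X)
        rw [conj_conj, mul_inv_cancel, map_one, one_smul] at h
        exact h.symm }
  have key : ∀ R : Subgroup G, R ≤ CC Z (i + 1) → (∀ r ∈ R, r ∈ CC Z i ∨ r ∈ normalizer (V i : Set G)) → R ≤ K := by
    intro R hR hR2 r hr X
    refine ⟨D.SS_step hML hK hF (hR hr) (hR2 r hr), fun h => ?_⟩
    have h1 := D.SS_step hML hK hF (hR (inv_mem hr)) (hR2 _ (inv_mem hr)) h
    rwa [conj_conj, inv_mul_cancel, map_one, one_smul] at h1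
  have h : CC Z (i + 1) ≤ K := D.gen i K
    (key _ (D_le _) fun r hr => Or.inl (D_le i hr)) (key _ inf_le_left fun r hr => Or.inr hr.2)
  exact (h hg X).1 hX

theorem SS_mx (hML : ML.Final.MLK.{u, u}) {i : Fin 2} (hK : IsKGroup (CC Z i)) {X : Subgroup G} (hX : X ∈ SS T Z i) :
    Mx (o2 (DD Z)) X ∧ X ≤ QQ Z i ∧ NN Z i ≤ X := by
  obtain ⟨A, hA, -, rfl⟩ := hX
  obtain ⟨-, h1, h2⟩ := D.mx hML hK hA
  exact ⟨h1, h2, le_sup_right⟩

/-- members of `SS i` lie in `Q_{i+1}` -/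
theorem SS_le (hML : ML.Final.MLK.{u, u}) {i : Fin 2} (hK : IsKGroup (CC Z i)) (hF : Fail T V Z i)
    {X : Subgroup G} (hX : X ∈ SS T Z i) : X ≤ QQ Z (i + 1) := by
  have h1 : NoFF.Basic.V X (CC Z (i + 1)) ≤ o2 (DD Z) :=
    V_le fun c hc => (D.SS_mx hML hK (D.SS_inv hML hK hF hc hX)).1.le
  have h2 : NoFF.Basic.V X (CC Z (i + 1)) ≤ QQ Z (i + 1) :=
    le_o2 ((h1.trans D.O_le_T).trans (D.T_le_C _)) ((o2_isPGroup _).to_le h1) (le_normalizer_V _ _)
  exact (le_V _ _).trans h2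

/-- `⟨N_i ^ C_{i+1}⟩ ≤ X` -/
theorem MM_le (hML : ML.Final.MLK.{u, u}) {i : Fin 2} (hK : IsKGroup (CC Z i)) (hF : Fail T V Z i)
    {X : Subgroup G} (hX : X ∈ SS T Z i) : MM Z i ≤ X := by
  refine V_le fun c hc => ?_
  have h1 := (D.SS_mx hML hK (D.SS_inv hML hK hF (inv_mem hc) hX)).2.2
  have h2 : MulAut.conj c • NN Z i ≤ MulAut.conj c • (MulAut.conj c⁻¹ • X) := conj_le_iff.2 h1
  rwa [conj_conj, mul_inv_cancel, map_one, one_smul] at h2

theorem SS_nonempty (hML : ML.Final.MLK.{u, u}) (i : Fin 2) (hK : ∀ i, IsKGroup (CC Z i)) : ∃ X, X ∈ SS T Z i := by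
  obtain ⟨A, hA⟩ := Mx.exists_mx (o2 (DD Z))
  obtain ⟨-, h1, h2⟩ := D.mx hML (hK (i + 1)) hA
  exact ⟨_, _, h1, h2, rfl⟩

/-- `[N_i, N_{i+1}] = 1` -/
theorem fail_comm (hML : ML.Final.MLK.{u, u}) {i : Fin 2} (hK : ∀ i, IsKGroup (CC Z i)) (hF : Fail T V Z i) :
    NN Z i ≤ centralizer (NN Z (i + 1) : Set G) := by
  obtain ⟨X, hX⟩ := D.SS_nonempty hML i hK
  exact ((D.SS_mx hML (hK i) hX).2.2.trans (D.SS_le hML (hK i) hF hX)).trans (D.Q_le_cent_N (i + 1))

/-- `A ≤ Q_i` maximal: `C_A(N_{i+1}) N_{i+1} ∈ SS i` -/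
theorem mem_SS (hML : ML.Final.MLK.{u, u}) {i : Fin 2} (hK : ∀ i, IsKGroup (CC Z i)) (hF : Fail T V Z i)
    {A : Subgroup G} (hA : Mx (o2 (DD Z)) A) (hAQ : A ≤ QQ Z i) :
    A ⊓ centralizer (NN Z (i + 1) : Set G) ⊔ NN Z (i + 1) ∈ SS T Z i := by
  obtain ⟨-, h1, h2⟩ := D.mx hML (hK (i + 1)) hA
  set A' : Subgroup G := A ⊓ centralizer (NN Z (i + 1) : Set G) ⊔ NN Z (i + 1) with hA'
  have h3 : A' ≤ centralizer (NN Z i : Set G) :=
    sup_le (inf_le_left.trans (hAQ.trans (D.Q_le_cent_N i))) (comm_symm (D.fail_comm hML hK hF))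
  have h4 : NN Z i ≤ A' := h1.le_of_comm (D.N_le_O i) (D.N_sq i) (comm_symm h3)
  refine ⟨A', h1, h2, ?_⟩
  rw [inf_eq_left.2 h3, sup_eq_left.2 h4]

/-- (b): not both fail -/
theorem not_both (hML : ML.Final.MLK.{u, u}) {i : Fin 2} (hK : ∀ i, IsKGroup (CC Z i)) (hF : Fail T V Z i)
    (hF' : Fail T V Z (i + 1)) : False := by
  -- `SS j = {X maximal in O : X ≤ Q_0 ∩ Q_1}`
  have key : ∀ {j : Fin 2}, Fail T V Z j → ∀ X : Subgroup G, X ∈ SS T Z j ↔
      Mx (o2 (DD Z)) X ∧ X ≤ QQ Z j ∧ X ≤ QQ Z (j + 1) := by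
    intro j hj X
    constructor
    · intro h
      obtain ⟨h1, h2, -⟩ := D.SS_mx hML (hK j) h
      exact ⟨h1, h2, D.SS_le hML (hK j) hj h⟩
    · rintro ⟨h1, h2, h3⟩
      have h4 : X ≤ centralizer (NN Z j : Set G) := h2.trans (D.Q_le_cent_N j)
      have h5 : NN Z j ≤ X := h1.le_of_comm (D.N_le_O j) (D.N_sq j) (comm_symm h4)
      refine ⟨X, h1, h3, ?_⟩
      rw [inf_eq_left.2 h4, sup_eq_left.2 h5]
  have heq : ∀ X : Subgroup G, X ∈ SS T Z (i + 1) ↔ X ∈ SS T Z i := by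
    intro X
    rw [key hF', key hF, add_one_add_one]
    tauto
  set J : Subgroup G := ⨆ A : SS T Z i, (A : Subgroup G) with hJ
  have hJO : J ≤ o2 (DD Z) := iSup_le fun A => (D.SS_mx hML (hK i) A.2).1.le
  have hinv : ∀ g : G, (∀ X, X ∈ SS T Z i → MulAut.conj g • X ∈ SS T Z i) → ∀ x ∈ J, g * x * g⁻¹ ∈ J := by
    intro g hg x hx
    have h2 : J ≤ MulAut.conj g⁻¹ • J := by
      refine iSup_le fun A => ?_
      have h3 : MulAut.conj g • (A : Subgroup G) ≤ J := le_iSup (fun A : SS T Z i => (A : Subgroup G)) ⟨_, hg A A.2⟩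
      have h4 : MulAut.conj g⁻¹ • (MulAut.conj g • (A : Subgroup G)) ≤ MulAut.conj g⁻¹ • J := conj_le_iff.2 h3
      rwa [conj_conj, inv_mul_cancel, map_one, one_smul] at h4
    have h5 := h2 hx
    rw [mem_conj, inv_inv] at h5
    exact h5
  have hJ1 : J = ⊥ := by
    refine D.nonloc' (i := i) ((o2_isPGroup _).to_le hJO) (le_norm_of fun g hg => hinv g fun X hX => ?_)
      (le_norm_of fun g hg => hinv g fun X hX => D.SS_inv hML (hK i) hF hg hX)
    refine (heq _).1 (D.SS_inv hML (hK (i + 1)) hF' ?_ ((heq _).2 hX))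
    rwa [add_one_add_one]
  obtain ⟨X, hX⟩ := D.SS_nonempty hML i hK
  have h2 : NN Z i ≤ J := (D.SS_mx hML (hK i) hX).2.2.trans (le_iSup (fun A : SS T Z i => (A : Subgroup G)) ⟨X, hX⟩)
  rw [hJ1] at h2
  exact D.ne (i + 1) (le_bot_iff.1 ((le_V _ _).trans h2))

end Fr

/-- the output of EX: the input of THEOREM KL* on `X`, on the level of `C_i` -/
structure Out (T : Subgroup G) (V Z : Fin 2 → Subgroup G) (i : Fin 2) (X B : Subgroup G) : Prop where
  NX : NN Z i ≤ X
  VX : V i ≤ X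
  CX : CC Z i ≤ normalizer (X : Set G)
  XQ : X ≤ QQ Z i
  sqX : ∀ x ∈ X, x ^ 2 = 1
  sqB : ∀ b ∈ B, b ^ 2 = 1
  BO : B ≤ o2 (DD Z)
  BH : B ≤ o2 (HH T V i)
  ker : B ⊓ centralizer (NN Z i : Set G) ≤ centralizer (X : Set G)
  ex : (centralizer (B : Set G)).relIndex X ≤ (centralizer (NN Z i : Set G)).relIndex B
  mv : ¬ B ≤ centralizer (NN Z i : Set G)

namespace Fr

variable [Finite G] {T : Subgroup G} {V Z : Fin 2 → Subgroup G} (D : Fr T V Z)

include D

theorem X_facts (i : Fin 2) : (WW V Z i ⊔ NN Z i ≤ QQ Z i) ∧ (∀ x ∈ WW V Z i ⊔ NN Z i, x ^ 2 = 1) ∧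
    CC Z i ≤ normalizer ((WW V Z i ⊔ NN Z i : Subgroup G) : Set G) ∧ V i ≤ WW V Z i ⊔ NN Z i := by
  have hc : WW V Z i ≤ centralizer (NN Z i : Set G) := (D.W_le_Q i).trans (D.Q_le_cent_N i)
  refine ⟨sup_le (D.W_le_Q i) (D.N_le_Q i), sq_sup (D.W_sq i) (D.N_sq i) hc, ?_, (le_V _ _).trans le_sup_left⟩
  refine le_norm_of fun c hcc x hx => ?_
  obtain ⟨w, hw, n, hn, rfl⟩ := exists_mul_of_mem_sup ((comm_symm hc).trans (centralizer_le_normalizer _)) hx
  have e : c * (w * n) * c⁻¹ = (c * w * c⁻¹) * (c * n * c⁻¹) := by group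
  rw [e]
  exact mul_mem (mem_sup_left ((mem_normalizer_iff.1 (le_normalizer_V (V i) (CC Z i) hcc) w).1 hw))
    (mem_sup_right ((mem_normalizer_iff.1 (le_normalizer_V (Z (i + 1)) (CC Z i) hcc) n).1 hn))

/-- the common part of (c) and (e): `A` maximal, `C_A(N_i) N_i` centralises `X = W_i N_i` -/
theorem out_of (hML : ML.Final.MLK.{u, u}) {i : Fin 2} (hK : IsKGroup (CC Z i)) {A : Subgroup G}
    (hA : Mx (o2 (DD Z)) A)
    (hc : A ⊓ centralizer (NN Z i : Set G) ≤ centralizer ((WW V Z i ⊔ NN Z i : Subgroup G) : Set G))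
    (hm : ¬ A ⊓ centralizer (UU V Z i : Set G) ≤ centralizer (NN Z i : Set G)) :
    Out T V Z i (WW V Z i ⊔ NN Z i) (A ⊓ centralizer (UU V Z i : Set G)) := by
  obtain ⟨h1, h2, h3, h4⟩ := D.X_facts i
  obtain ⟨h5, h6, -⟩ := D.ex_U hML hK hA
  have hXc : WW V Z i ⊔ NN Z i ≤ centralizer ((WW V Z i ⊔ NN Z i : Subgroup G) : Set G) := comm_of_sq h2
  have h7 : (centralizer (A : Set G)).relIndex (WW V Z i ⊔ NN Z i) ≤ (centralizer (A : Set G)).relIndex (NN Z i) := by
    refine (hA.thom (h1.trans (D.Q_le_O i)) h2).trans ?_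
    rw [← (D.mx hML hK hA).1]
    have e1 : (A ⊓ centralizer (NN Z i : Set G)).relIndex A = (centralizer (NN Z i : Set G)).relIndex A :=
      inf_relIndex_left _ _
    rw [← e1]
    exact relIndex_anti hc
  have h8 := sup_of_relIndex_le le_sup_right hXc h7
  have h9 : WW V Z i ⊔ NN Z i ≤ NN Z i ⊔ ((WW V Z i ⊔ NN Z i) ⊓
      centralizer ((A ⊓ centralizer (UU V Z i : Set G) : Subgroup G) : Set G)) :=
    h8.trans (sup_le_sup_left (inf_le_inf_left _ (centralizer_le inf_le_left)) _)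
  refine ⟨le_sup_right, h4, h3, h1, h2, fun b hb => hA.sq b hb.1, inf_le_left.trans hA.le, h5, ?_, ?_, hm⟩
  · exact (inf_le_inf_right _ inf_le_left).trans hc
  · rw [h6]
    exact relIndex_le_of_sup le_sup_right hXc h9

/-- (e) -/
theorem out_e (hML : ML.Final.MLK.{u, u}) {i : Fin 2} (hK : IsKGroup (CC Z i)) (hF : ¬ Fail T V Z i)
    (hJ : ∀ A : Subgroup G, Mx (o2 (DD Z)) A → A ≤ centralizer (V i : Set G)) :
    ∃ X B : Subgroup G, Out T V Z i X B := by
  unfold Fail at hF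
  push Not at hF
  obtain ⟨A, hA, -, hm⟩ := hF
  refine ⟨_, _, D.out_of hML hK hA ?_ hm⟩
  obtain ⟨-, h1, h2⟩ := D.mx hML hK hA
  have h3 : WW V Z i ≤ centralizer ((A ⊓ centralizer (NN Z i : Set G) ⊔ NN Z i : Subgroup G) : Set G) := by
    refine V_le fun c hc => ?_
    have e1 : MulAut.conj c⁻¹ • QQ Z i = QQ Z i := conj_eq_of_mem (le_normalizer_o2 _ (inv_mem hc))
    have h4 : MulAut.conj c⁻¹ • (A ⊓ centralizer (NN Z i : Set G) ⊔ NN Z i) ≤ QQ Z i := by
      rw [← e1]; exact conj_le_iff.2 h2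
    have h5 := comm_symm (hJ _ (h1.conj (h4.trans (D.Q_le_O i))))
    have h6 : MulAut.conj c • V i ≤ MulAut.conj c • centralizer
        ((MulAut.conj c⁻¹ • (A ⊓ centralizer (NN Z i : Set G) ⊔ NN Z i) : Subgroup G) : Set G) := conj_le_iff.2 h5
    rwa [conj_cent, conj_conj, mul_inv_cancel, map_one, one_smul] at h6
  have h7 : A ⊓ centralizer (NN Z i : Set G) ≤ A ⊓ centralizer (NN Z i : Set G) ⊔ NN Z i := le_sup_left
  refine comm_symm (sup_le (h3.trans (centralizer_le h7)) ?_)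
  exact comm_symm inf_le_right

/-- **EX** -/
theorem ex (hML : ML.Final.MLK.{u, u}) (hK : ∀ i, IsKGroup (CC Z i)) :
    ∃ (i : Fin 2) (X B : Subgroup G), Out T V Z i X B := by
  have hJ : ∀ i, ∀ A : Subgroup G, Mx (o2 (DD Z)) A → A ≤ centralizer (V i : Set G) :=
    fun i A hA => hA.le.trans (D.OV i)
  by_cases h0 : Fail T V Z 0
  · by_cases h1 : Fail T V Z (0 + 1)
    · exact (D.not_both hML hK h0 h1).elim
    · exact ⟨_, D.out_e hML (hK _) h1 (hJ _)⟩
  · exact ⟨_, D.out_e hML (hK _) h0 (hJ _)⟩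

end Fr

end Cfsg.Agent.Omega.KL.TwoG

end

end

-- merged: Cfsg.Agent.Mrg.Omega.KL.TwoG.Inp
section

/-!
# From `Out` to a contradiction (helper391's `KL/TwoZ/Inp` for the frame `TwoG.Fr`)

* `Fr.preQ`, `Fr.inpQ`, `Fr.out_false`; **`Fr.false_of`** : the frame `Fr T V Z` is contradictory.
-/

set_option autoImplicit false
set_option linter.unusedSectionVars false

namespace Cfsg.Agent.Omega.KL.TwoG

open Subgroup Cfsg Cfsg.Agent.Omega.MinPar
open Cfsg.Agent.ZN (o2 zc)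
open Cfsg.Agent.ClassTwoFusion.Quad Cfsg.Agent.Omega.ML.MinFrame
open Cfsg.Agent.Omega.OM.KTwo (ne_add_one eq_add_one add_one_add_one le_normalizer_V le_V exists_mul_of_mem_sup)
open Cfsg.Agent.MinSimple.MinParabolic (IsMinPar)
open Cfsg.Agent.Omega.NoFF.Basic (conj_conj mem_conj conj_le_iff comm_symm comm_mono Z_le_V V_le)
open Cfsg.Agent.ZN.ChoiceSit (Syl exists_syl syl_conj o2_le_syl syl_not_dvd)
open Cfsg.Agent.MinSimple.VModule (mem_zc zc_le normalizer_le_normalizer_zc le_o2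
  o2_isPGroup o2_le zc_le_centralizer le_centralizer_zc le_normalizer_o2)
open Cfsg.Agent.Omega.TC.LemZ (card_eq le_norm_of norm_cent norm_inf)
open Cfsg.Agent.Omega.KL.StarQ (InpQ)
open Cfsg.Agent.Omega.KL.TwoS (Mx relIndex_anti relIndex_mono)
open Cfsg.Agent.Omega.KL.TwoZ (CC QQ NH NN WW UU HH V_le_of norm_V norm_o2_of sq_conj sq_V MM PreQ actX)
open scoped Pointwise

universe u v

namespace Fr

variable {G : Type u} [Group G] [Finite G] {T : Subgroup G} {V Z : Fin 2 → Subgroup G}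

theorem preQ (hML : ML.Final.MLK.{u, u}) (D : Fr T V Z) {i : Fin 2} {X B : Subgroup G} (hK : IsKGroup (CC Z i))
    (O : Out T V Z i X B) :
    letI := actX O.CX
    PreQ (T.subgroupOf (CC Z i)) (B.subgroupOf (CC Z i)) ((Z (i + 1)).subgroupOf X) ((V i).subgroupOf X) := by
  let := actX O.CX
  change PreQ (T.subgroupOf (CC Z i)) (B.subgroupOf (CC Z i)) ((Z (i + 1)).subgroupOf X) ((V i).subgroupOf X)
  have hBC : B ≤ CC Z i := O.BO.trans (D.O_le_T.trans (D.T_le_C i))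
  have hZN : Z (i + 1) ≤ NN Z i := le_V _ _
  have hZX : Z (i + 1) ≤ X := hZN.trans O.NX
  have hsm : ∀ (c : CC Z i) (m : X), ((c • m : X) : G) = c * m * (c : G)⁻¹ := fun _ _ => rfl
  have hfix : ∀ (c : CC Z i) (m : X), c • m = m ↔ (m : G) * c = c * m := by
    intro c m
    rw [Subtype.ext_iff, hsm, mul_inv_eq_iff_eq_mul, eq_comm]
  have hnrm : ∀ (Y : Subgroup G) (c : CC Z i), (c : G) ∈ normalizer (Y : Set G) → ∀ m ∈ Y.subgroupOf X,
      c • m ∈ Y.subgroupOf X := by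
    intro Y c hc m hm
    refine mem_subgroupOf.2 ?_
    rw [hsm]
    exact (mem_normalizer_iff.1 hc _).1 (mem_subgroupOf.1 hm)
  have hfxr : ∀ Y : Subgroup G, Y ≤ X → fxr (CC Z i) (Y.subgroupOf X) = (centralizer (Y : Set G)).subgroupOf (CC Z i) := by
    intro Y hY
    ext c
    rw [mem_subgroupOf, mem_centralizer_iff]
    constructor
    · intro h y hy
      exact (hfix c ⟨y, hY hy⟩).1 (h _ (mem_subgroupOf.2 hy))
    · intro h y hy
      exact (hfix c y).2 (h _ (mem_subgroupOf.1 hy))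
  have hfxt : fxr (CC Z i) (⊤ : Subgroup X) = (centralizer (X : Set G)).subgroupOf (CC Z i) := by
    rw [← hfxr X le_rfl, subgroupOf_self]
  have hnT : ∀ g : CC Z i, g ∈ normalizer ((T.subgroupOf (CC Z i) : Subgroup (CC Z i)) : Set (CC Z i)) →
      (g : G) ∈ CC Z i ⊓ normalizer (T : Set G) := by
    intro g hg
    refine mem_inf.2 ⟨g.2, ?_⟩
    rw [mem_normalizer_iff]
    intro t
    constructor
    · intro ht
      exact (mem_normalizer_iff.1 hg ⟨t, D.T_le_C i ht⟩).1 ht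
    · intro ht
      have h1 : (g : G)⁻¹ * ((g : G) * t * (g : G)⁻¹) * (g : G)⁻¹⁻¹ ∈ T :=
        (mem_normalizer_iff.1 (inv_mem hg) ⟨(g : G) * t * (g : G)⁻¹, D.T_le_C i ht⟩).1 ht
      have e : (g : G)⁻¹ * ((g : G) * t * (g : G)⁻¹) * (g : G)⁻¹⁻¹ = t := by group
      rwa [e] at h1
  have hcv : ∀ A : Subgroup (CC Z i), (cv X (A : Set (CC Z i))).index =
      (centralizer ((A.map (CC Z i).subtype : Subgroup G) : Set G)).relIndex X := by
    intro A
    change _ = ((centralizer ((A.map (CC Z i).subtype : Subgroup G) : Set G)).subgroupOf X).index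
    congr 1
    ext m
    rw [mem_subgroupOf, mem_centralizer_iff]
    constructor
    · rintro hm _ ⟨a, ha, rfl⟩
      exact ((hfix a m).1 (hm a ha)).symm
    · intro hm a ha
      exact (hfix a m).2 (hm a ⟨a, ha, rfl⟩).symm
  refine ⟨?_, ?_, ?_, ?_, ?_, ?_, ?_, ?_, ?_, ?_, ?_, ?_, ?_, ?_, ?_, hK⟩
  · intro m
    apply Subtype.ext
    have h := O.sqX m m.2
    rw [pow_two] at h
    exact h
  · exact D.T_isPGroup.comap_of_injective (CC Z i).subtype (CC Z i).subtype_injective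
  · exact syl_not_dvd (D.syl i)
  · intro z hz t ht
    rw [hfix]
    exact mem_centralizer_iff.1 (D.T_le_C (i + 1) (mem_subgroupOf.1 ht)) z (mem_subgroupOf.1 hz)
  · exact fun g hg => hnrm _ g (D.nT i (hnT g hg)).1
  · exact fun g hg => hnrm _ g (D.nT i (hnT g hg)).2
  · intro w hw hwT g
    rw [hfix]
    have h1 : (w : G) ∈ centralizer (T : Set G) := by
      rw [mem_centralizer_iff]
      intro t ht
      exact ((hfix ⟨t, D.T_le_C i ht⟩ w).1 (hwT _ (mem_subgroupOf.2 ht))).symm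
    exact mem_centralizer_iff.1 g.2 w (D.cV i w (mem_subgroupOf.1 hw) h1)
  · intro P hP
    have hR := Plug.minPar_map (D.T_le_C i) hP
    have hRC : P.map (CC Z i).subtype ≤ CC Z i := map_subtype_le P
    by_cases hRm : P.map (CC Z i).subtype ≤ CC Z (i + 1)
    · left
      intro z hz p hp
      rw [hfix]
      exact mem_centralizer_iff.1 (hRm (mem_map_of_mem (CC Z i).subtype hp)) z (mem_subgroupOf.1 hz)
    · right
      intro g hg hog w hw
      have h1 := D.odd (i + 1) i (ne_add_one i).symm _ hR hRC hRm g (mem_map_of_mem (CC Z i).subtype hg)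
        (by rwa [orderOf_coe])
      rw [hfix]
      exact mem_centralizer_iff.1 h1 w (mem_subgroupOf.1 hw)
  · intro a ha
    apply Subtype.ext
    have h := O.sqB a (mem_subgroupOf.1 ha)
    rw [pow_two] at h
    exact h
  · refine Plug.sub_o2 (S := DD Z) (fun c => ?_) O.BO
    rw [hfxr _ hZX, mem_subgroupOf]
    constructor
    · exact fun h => mem_D c.2 h
    · exact fun h => D_le (i + 1) h
  · refine Plug.sub_o2 (S := HH T V i) (fun c => ?_) O.BH
    rw [hfxr (V i) O.VX, ← subgroupOf_sup (D.cent_V_le i) (D.T_le_C i), mem_subgroupOf]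
  · intro a ha hc m
    have h1 : (a : G) ∈ centralizer (NN Z i : Set G) := by
      have h2 : NN Z i ≤ centralizer ({(a : G)} : Set G) := by
        refine V_le fun c hc' z hz => ?_
        rw [mem_conj] at hz
        rw [mem_centralizer_singleton_iff]
        have h3 := hc ⟨c, hc'⟩ ⟨c⁻¹ * z * c, hZX hz⟩ (mem_subgroupOf.2 hz)
        rw [hfix] at h3
        have e : (((⟨c, hc'⟩ : CC Z i) • (⟨c⁻¹ * z * c, hZX hz⟩ : X) : X) : G) = z := by
          rw [hsm]
          change c * (c⁻¹ * z * c) * c⁻¹ = z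
          group
        rw [e] at h3
        exact h3
      rw [mem_centralizer_iff]
      exact fun x hx => mem_centralizer_singleton_iff.1 (h2 hx)
    rw [hfix]
    exact mem_centralizer_iff.1 (O.ker ⟨mem_subgroupOf.1 ha, h1⟩) m m.2
  · by_contra hc
    push Not at hc
    apply O.mv
    intro b hb
    rw [mem_centralizer_iff]
    intro x hx
    have h1 := hc ⟨b, hBC hb⟩ (mem_subgroupOf.2 hb) ⟨x, O.NX hx⟩
    exact (hfix _ _).1 h1
  · intro A hA
    have hAB : A.map (CC Z i).subtype ≤ B := by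
      rintro _ ⟨a, ha, rfl⟩
      exact mem_subgroupOf.1 (hA ha)
    have h1 := D.no_N hML hK (hAB.trans O.BO) (fun b hb => O.sqB b (hAB hb))
    have e1 : (fxr (CC Z i) (⊤ : Subgroup X)).relIndex A =
        (centralizer (X : Set G)).relIndex (A.map (CC Z i).subtype) := by
      rw [hfxt, subgroupOf, relIndex_comap]
    rw [e1, hcv]
    have h2 : (centralizer (X : Set G)).relIndex (A.map (CC Z i).subtype) ≤
        (centralizer (NN Z i : Set G)).relIndex (A.map (CC Z i).subtype) := by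
      rw [← inf_relIndex_left (A.map (CC Z i).subtype) (centralizer (NN Z i : Set G)),
        ← inf_relIndex_left (A.map (CC Z i).subtype) (centralizer (X : Set G))]
      exact relIndex_anti (le_inf inf_le_left ((inf_le_inf_right _ hAB).trans O.ker))
    exact h2.trans (h1.trans (relIndex_mono O.NX))
  · rw [hcv, hfxt, relIndex_subgroupOf hBC]
    have e : (B.subgroupOf (CC Z i)).map (CC Z i).subtype = B := by
      rw [subgroupOf_map_subtype, inf_eq_left.2 hBC]
    rw [e]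
    exact O.ex.trans (relIndex_anti (centralizer_le O.NX))

/-- **the input of THEOREM KL*(q)** -/
theorem inpQ (hML : ML.Final.MLK.{u, u}) (D : Fr T V Z) {i : Fin 2} {X B : Subgroup G} (hK : IsKGroup (CC Z i))
    (O : Out T V Z i X B) :
    ∃ (H M : Type u) (_ : Group H) (_ : Finite H) (_ : Group M) (_ : Finite M) (_ : MulDistribMulAction H M)
      (T' A' : Subgroup H) (Z' Y' : Subgroup M), InpQ T' A' Z' Y' := by
  let := actX O.CX
  obtain ⟨H, _, _, _, T', A', h⟩ := (D.preQ hML hK O).inp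
  exact ⟨H, X, inferInstance, inferInstance, inferInstance, inferInstance, inferInstance, T', A', _, _, h⟩

/-- **EX + KL*(q)** -/
theorem out_false (hML : ML.Final.MLK.{u, u}) (hE : ML.Ex.Two.Ext.{u, u}) (D : Fr T V Z) {i : Fin 2}
    {X B : Subgroup G} (hK : IsKGroup (CC Z i)) (O : Out T V Z i X B) : False := by
  obtain ⟨H, M, _, _, _, _, _, T', A', Z', Y', h⟩ := D.inpQ hML hK O
  exact h.false_of hML hE

/-- **the frame is contradictory** -/
theorem false_of (hML : ML.Final.MLK.{u, u}) (hE : ML.Ex.Two.Ext.{u, u}) (D : Fr T V Z)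
    (hK : ∀ i, IsKGroup (CC Z i)) : False := by
  obtain ⟨i, X, B, O⟩ := D.ex hML hK
  exact D.out_false hML hE (hK i) O

end Fr

end Cfsg.Agent.Omega.KL.TwoG

end

-- merged: Cfsg.Agent.Mrg.Omega.NO3S.EThree.FourTwo.End
section

/-!
# Row (7): `k = 2`, `4 ≤ q`: (TI), every stage

* `frK_of` : 203's frame at `k = 2` from the second alternative of 514's `Q.split`;
* `kgroup` : `Y_j` is a `K`-group;
* `ti_two` : (TI);
* `tiIn_of`, `fourIn_of` : the sockets of Row7.
-/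

set_option autoImplicit false
set_option linter.unusedSectionVars false

namespace Cfsg.Agent.Omega.NO3S.EThree.FourTwo

open Subgroup Cfsg Cfsg.Agent.ZN.ChoiceBase
open Cfsg.Agent.ZN (jj zj bau zc zl o2)
open Cfsg.Agent.ZN.ChoiceSit (Syl exists_syl syl_conj)
open Cfsg.Agent.Omega.NO3S.EThree.Frame
open Cfsg.Agent.Omega.Node.MultiOf
open Cfsg.Agent.Omega.EK3.FK
open Cfsg.Agent.Omega.EK3.StarE (EE cj_le_EE)
open Cfsg.Agent.Omega.MinPar (NonLoc)
open Cfsg.Agent.Omega.ML.Final (MLK)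
open Cfsg.Agent.Omega.Frame (Cls)

universe u

variable {G : Type u} [Group G] [Finite G] {S : Sylow 2 G} {P K B ZJ : Subgroup G} {L W Z C : Fin 2 → Subgroup G}

/-- `Y_j` is a `K`-group -/
theorem kgroup {z : Fin 2 → G} (h : FrK S P K B ZJ L W Z C z) (j : Fin 2) : IsKGroup (YY z j) := by
  have hG := h.bg.hyp.ctx
  refine hG.kproper _ fun htop => ?_
  have := hG.simple
  obtain ⟨l, hl⟩ := h.exists_ne j
  have hz : z l ∈ center G := by
    rw [mem_center_iff]
    intro g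
    have hg : g ∈ YY z j := by rw [htop]; exact mem_top g
    exact mem_YY.1 hg l hl
  rcases (inferInstance : (center G).Normal).eq_bot_or_eq_top with h1 | h1
  · rw [h1, mem_bot] at hz
    exact h.z1 l hz
  · apply hG.nonComm
    refine ⟨⟨fun a b => ?_⟩⟩
    have hb : b ∈ center G := by rw [h1]; exact mem_top b
    exact mem_center_iff.1 hb a

/-- the frame from the second alternative of `Q.split` -/
theorem frK_of (h : Mul S P K B ZJ L W Z C 4) {z : Fin 2 → G} (hz : EK3.Q.HZ S W Z z) :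
    FrK S P K B ZJ L W Z C z where
  mul := h
  two := le_rfl
  zZ i := (hz i).1
  z1 i := (hz i).2.1
  Tz i := ((hz i).2.2 (z i) (hz i).1).2 (Or.inr rfl)
  fx i w hw := ((hz i).2.2 w hw).1
  uni := EK3.Q.OfMul.uni_mul h le_rfl (by norm_num)
  blk := EK3.Q.OfMul.blk_mul h le_rfl (by norm_num) (EK3.Q.B_le_TStar h.bg)

/-- **(TI), `k = 2`, `4 ≤ q`, every stage**, from the impossibility of (4F). -/
theorem ti_two' {q : ℕ} (h : Mul S P K B ZJ L W Z C q) (hq : 4 ≤ q)
    (hF : q = 4 → ∀ z : Fin 2 → G, FrK S P K B ZJ L W Z C z →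
      (∀ i, ∃ f ∈ DD z, f ∈ normalizer (W i : Set G) ∧ f ∉ normalizer (Z i : Set G)) → False) :
    ∀ i, TI (Z i) := by
  have hu := EK3.Q.OfMul.uni_mul h le_rfl (by omega)
  have hb : ∀ T : Subgroup G, B ≤ T → TC.OfMul.BlkS K B T := fun T hT =>
    EK3.Q.OfMul.blk_mul h le_rfl (by omega) hT
  rcases EK3.Q.split h le_rfl hq hb hu with h1 | ⟨rfl, z, hz, hi⟩
  · intro i
    refine OM.SWQ.ti_of_cent h.bg fun z hz hz1 => le_trans (le_inf le_rfl fun x _ => ?_)
      (h1 i (i + 1) (ne_succ i).symm z hz hz1)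
    rw [EK3.Q.mem_CQ]
    intro l hl hl'
    exact absurd (((fin2 i l).1 hl')) hl
  · refine (hF rfl z (frK_of h hz) ?_).elim
    have h1 := EK3.Q.hp h le_rfl hb hu hz hi
    intro i
    obtain ⟨f, hf, hW, hZ⟩ := h1 i
    exact ⟨f, mem_DD.2 (EK3.Q.mem_DD.1 hf), hW, hZ⟩

/-- **The abstract frame of 764 from `FrK`**, given (K1): `O₂(D)` centralises `Z_i`. -/
theorem twoFr {z : Fin 2 → G} (h : FrK S P K B ZJ L W Z C z) (hE : NLoc (KZ B ZJ))
    (hp : ∀ i, ∃ f ∈ DD z, f ∈ normalizer (W i : Set G) ∧ f ∉ normalizer (Z i : Set G))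
    (hO : ∀ i, o2 (DD z) ≤ centralizer (Z i : Set G)) : KL.TwoG.Fr (TT S W) Z fun i => zpowers (z i) where
  char2 := char2 h
  sqV := sqV h
  ZV := ZV h
  ne := ne h
  syl := syl h
  nT := nT h
  nV := nV h
  cV := cV h
  OV i := by
    rw [inter_eq]
    exact hO i
  VN := VN h
  sti := sti h
  odd := odd h
  gen := gen h hp
  nonloc := nonloc h hE

/-- **(4F) is impossible, `k = 2`**, given (K1). -/
theorem false_of_k1 (hML : MLK.{u, u}) (hX : ML.Ex.Two.Ext.{u, u}) {z : Fin 2 → G} (h : FrK S P K B ZJ L W Z C z)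
    (hE : NLoc (KZ B ZJ))
    (hp : ∀ i, ∃ f ∈ DD z, f ∈ normalizer (W i : Set G) ∧ f ∉ normalizer (Z i : Set G))
    (hO : ∀ i, o2 (DD z) ≤ centralizer (Z i : Set G)) : False :=
  (twoFr h hE hp hO).false_of hML hX fun i => by
    change IsKGroup (centralizer (zpowers (z i) : Set G))
    rw [cen_eq]
    exact kgroup h _

end Cfsg.Agent.Omega.NO3S.EThree.FourTwo

end
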