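import Cfsg.Agent.Mrg.Omega.NO3S.EThree.Row7
import Cfsg.Agent.Mrg.Omega.EK3.Q.Claim
import Cfsg.Agent.Mrg.Omega.EK3.Q.Def
import Cfsg.Agent.Mrg.Omega.NO3S.EThree.FourTwo.End
import Cfsg.Agent.Mrg.Omega.EK3.FK.KOneI

-- merged: Cfsg.Agent.Mrg.Omega.NO3S.EThree.Row7Split
section

/-!
# Row (7) (`k = 2`, `q ≥ 4`): TI or the K-shape of (4F), every stage

* `ti_or` : `(∀ i, TI (Z i))`, or `q = 4`, `C_{Z i}(T*) = ⟨z i⟩` has order 2 and for both `i` some `f ∈ C_G(z 0, z 1)`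
  normalises `W i` and not `Z i`;
* `FourK K` : the socket of the second case; `eOf_split` : **row (7)** from `FourK`, `NonLocIn`, `VIn`, `KIn`.
-/

set_option autoImplicit false
set_option linter.unusedSectionVars false

namespace Cfsg.Agent.Omega.NO3S.EThree.Row7Split

open Subgroup Cfsg Cfsg.Agent.ZN.ChoiceBase
open Cfsg.Agent.ZN (jj zj bau zc zl o2)
open Cfsg.Agent.Omega.OM
open Cfsg.Agent.Omega.NO3S.EThree.Frame
open Cfsg.Agent.Omega.MinPar (NonLoc)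
open Cfsg.Agent.Omega.Frame (Cls)
open Cfsg.Agent.Omega.Node.MultiOf
open Cfsg.Agent.Omega.NO3S.EThree.Row7 (MQ NonLocIn VIn KIn Nn fin2)
open Cfsg.Agent.Omega.EK3.Q (HZ)

universe u

/-- **TI or the K-shape of (4F).** -/
theorem ti_or {G : Type u} [Group G] [Finite G] {S : Sylow 2 G} {P K B ZJ : Subgroup G}
    {L W Z C : Fin 2 → Subgroup G} {q : ℕ} (h : Mul S P K B ZJ L W Z C q) (hq : 4 ≤ q) :
    (∀ i, TI (Z i)) ∨ (q = 4 ∧ ∃ z : Fin 2 → G, HZ S W Z z ∧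
      ∀ i, ∃ f ∈ (⨅ l, centralizer ({z l} : Set G)),
        f ∈ normalizer (W i : Set G) ∧ f ∉ normalizer (Z i : Set G)) := by
  have uni := EK3.Q.OfMul.uni_mul h le_rfl (by omega)
  have blk : ∀ T : Subgroup G, B ≤ T → TC.OfMul.BlkS K B T := fun T hT =>
    EK3.Q.OfMul.blk_mul h le_rfl (by omega) hT
  rcases EK3.Q.split h le_rfl hq blk uni with h1 | ⟨rfl, z, hz, hne⟩
  · left
    intro i
    refine SWQ.ti_of_cent h.bg fun z hz hz1 => ?_
    obtain ⟨j, hj⟩ := h.bg.two i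
    refine le_trans (le_inf le_rfl (le_iInf fun l => ?_)) (h1 i j (Ne.symm hj) z hz hz1)
    have h2 : ∀ a b c : Fin 2, a ≠ b → a ≠ c → b ≠ c → False := by decide
    exact (h2 _ _ _ l.2.1 l.2.2 (Ne.symm hj)).elim
  · exact Or.inr ⟨rfl, z, hz, EK3.Q.hp h le_rfl blk uni hz hne⟩

/-- The K-shape of (4F), `k = 2`. -/
def FourK (K : Cls.{u}) : Prop :=
  ∀ (G : Type u) [Group G] [Finite G], K G → ∀ (S : Sylow 2 G) (P K' B ZJ : Subgroup G)
    (L W Z C : Fin 2 → Subgroup G), Mul S P K' B ZJ L W Z C 4 → NLoc (KZ B ZJ) →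
      ∀ z : Fin 2 → G, HZ S W Z z →
        (∀ i, ∃ f ∈ (⨅ l, centralizer ({z l} : Set G)),
          f ∈ normalizer (W i : Set G) ∧ f ∉ normalizer (Z i : Set G)) → IsKnownSimple' G

/-- **Row (7)** from its sockets. -/
theorem eOf_split {K : Cls.{u}} (hF : FourK K) (hN : NonLocIn K) (hV : VIn K) (hK : KIn K) :
    EOf K fun k q => k = 2 ∧ 4 ≤ q := by
  rintro G _ _ hG S P K' B ZJ k L W Z C q - ⟨rfl, hq⟩ hM hNL
  rcases ti_or hM hq with hti | ⟨rfl, z, hz, hp⟩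
  · have h : MQ S P K' B ZJ L W Z C q := ⟨hM, hq, hNL, hti, hN G hG S P K' B ZJ L W Z C q hq hM hNL⟩
    by_cases h0 : W 0 ≤ Nn Z 0
    · refine hK G hG S P K' B ZJ L W Z C q h fun i => ?_
      rcases fin2 i with rfl | rfl
      · exact h0
      · exact h.le_iff.1 h0
    · refine (hV G hG S P K' B ZJ L W Z C q h fun i => ?_).elim
      rcases fin2 i with rfl | rfl
      · exact h0
      · exact fun h1 => h0 (h.le_iff.2 h1)
  · exact hF G hG S P K' B ZJ L W Z C hM hNL z hz hp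

end Cfsg.Agent.Omega.NO3S.EThree.Row7Split

end

-- merged: Cfsg.Agent.Mrg.Omega.NO3S.EThree.FourTwo.Plug
section

/-!
# Row (7), (4F), `k = 2`: the sockets

* `false_two` : (4F) is impossible;  `ti_two` : (TI);
* `fourK_of` : 514's socket `FourK`;  `tiIn_of`, `fourIn_of` : the sockets of Row7.
-/

set_option autoImplicit false
set_option linter.unusedSectionVars false

namespace Cfsg.Agent.Omega.NO3S.EThree.FourTwo

open Subgroup Cfsg Cfsg.Agent.ZN.ChoiceBase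
open Cfsg.Agent.ZN (jj zj bau zc zl o2)
open Cfsg.Agent.Omega.NO3S.EThree.Frame
open Cfsg.Agent.Omega.Node.MultiOf
open Cfsg.Agent.Omega.EK3.FK
open Cfsg.Agent.Omega.ML.Final (MLK)
open Cfsg.Agent.Omega.Frame (Cls)

universe u

variable {G : Type u} [Group G] [Finite G] {S : Sylow 2 G} {P K B ZJ : Subgroup G} {L W Z C : Fin 2 → Subgroup G}

/-- **(4F) is impossible, `k = 2`, every stage.** -/
theorem false_two (hML : MLK.{u, u}) (hX : ML.Ex.Two.Ext.{u, u}) {z : Fin 2 → G} (h : FrK S P K B ZJ L W Z C z)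
    (hE : NLoc (KZ B ZJ))
    (hp : ∀ i, ∃ f ∈ DD z, f ∈ normalizer (W i : Set G) ∧ f ∉ normalizer (Z i : Set G)) : False :=
  false_of_k1 hML hX h hE hp fun i => h.o2_le_Z (hp i)

/-- **(TI), `k = 2`, `4 ≤ q`, every stage.** -/
theorem ti_two {q : ℕ} (hML : MLK.{u, u}) (hX : ML.Ex.Two.Ext.{u, u}) (h : Mul S P K B ZJ L W Z C q) (hq : 4 ≤ q)
    (hE : NLoc (KZ B ZJ)) : ∀ i, TI (Z i) :=
  ti_two' h hq fun _ _ hz hp => false_two hML hX hz hE hp

/-- **The socket `FourK` of Row7Split.** -/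
theorem fourK_of (K : Cls.{u}) (hML : MLK.{u, u}) (hX : ML.Ex.Two.Ext.{u, u}) : Row7Split.FourK K := by
  intro G _ _ _ S P K' B ZJ L W Z C h hE z hz hp
  refine (false_two hML hX (frK_of h hz) hE fun i => ?_).elim
  obtain ⟨f, hf, hW, hZ⟩ := hp i
  exact ⟨f, mem_DD.2 (EK3.Q.mem_DD.1 hf), hW, hZ⟩

/-- **The socket `TiIn` of Row7.** -/
theorem tiIn_of (K : Cls.{u}) (hML : MLK.{u, u}) (hX : ML.Ex.Two.Ext.{u, u}) : Row7.TiIn K := by
  intro G _ _ _ S P K' B ZJ L W Z C q hq h hE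
  exact Or.inl (ti_two hML hX h hq hE)

/-- **The socket `FourIn` of Row7.** -/
theorem fourIn_of (K : Cls.{u}) (hML : MLK.{u, u}) (hX : ML.Ex.Two.Ext.{u, u}) : Row7.FourIn K := by
  intro G _ _ _ S P K' B ZJ L W Z C q hq h hE _ hn
  exact (hn (ti_two hML hX h hq hE)).elim

end Cfsg.Agent.Omega.NO3S.EThree.FourTwo

end
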